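import Groth.Agent.CAlgH.QuasiRegularThickening
import Groth.Agent.CAlgH.KindBasic

/-!
# Base change of quasi-regular and `H₁`-regular sequences with flat quotient
-/

universe u

set_option autoImplicit false

open TensorProduct

namespace Groth.Agent.FlatQuotBC

open CAlgH

section Pair

variable {P S : Type u} [CommRing P] [CommRing S] [Algebra P S] (𝔞 : Ideal P) (J : Ideal S)

/-- If `S ⧸ J` is flat over `P`, then `𝔞S ∩ J = 𝔞J`. -/
theorem mem_mul_of_mem [Module.Flat P (S ⧸ J)] {x : S} (hx : x ∈ 𝔞.map (algebraMap P S)) (hxJ : x ∈ J) :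
    x ∈ 𝔞.map (algebraMap P S) * J := by
  obtain ⟨n, c, z, hz⟩ := Submodule.mem_span_set'.1 hx
  choose a ha hae using fun i => (z i).2
  obtain ⟨k, b, y, hy, hb⟩ := Module.Flat.isTrivialRelation_of_sum_smul_eq_zero (R := P) (M := S ⧸ J)
    (f := a) (x := fun i => Ideal.Quotient.mk J (c i)) (by
      refine (Finset.sum_congr rfl fun i _ => ?_).trans
        ((map_sum (Ideal.Quotient.mk J) (fun i => c i * algebraMap P S (a i)) Finset.univ).symm.trans
          (Ideal.Quotient.eq_zero_iff_mem.2 ?_))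
      · rw [Algebra.smul_def, ← Ideal.Quotient.mk_algebraMap, map_mul, mul_comm]
      · simpa only [hae, ← smul_eq_mul, hz] using hxJ)
  choose w hw using fun j => Ideal.Quotient.mk_surjective (y j)
  have hd : ∀ i, c i - ∑ j, algebraMap P S (b i j) * w j ∈ J := fun i => by
    rw [← Ideal.Quotient.eq, show Ideal.Quotient.mk J (c i) = _ from hy i, map_sum]
    refine Finset.sum_congr rfl fun j _ => ?_
    rw [map_mul, hw, Algebra.smul_def, Ideal.Quotient.mk_algebraMap]
  have hx' : x = ∑ i, algebraMap P S (a i) * (c i - ∑ j, algebraMap P S (b i j) * w j) := by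
    have h0 : ∑ i, algebraMap P S (a i) * ∑ j, algebraMap P S (b i j) * w j = 0 := by
      simp only [Finset.mul_sum, ← mul_assoc, ← map_mul]
      rw [Finset.sum_comm]
      refine Finset.sum_eq_zero fun j _ => ?_
      rw [← Finset.sum_mul, ← map_sum]
      simp [hb j]
    simp only [mul_sub, Finset.sum_sub_distrib, h0, sub_zero]
    rw [← hz]
    exact Finset.sum_congr rfl fun i _ => by rw [smul_eq_mul, ← hae, mul_comm]
  rw [hx']
  exact Ideal.sum_mem _ fun i _ => Ideal.mul_mem_mul (Ideal.mem_map_of_mem _ (ha i)) (hd i)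

/-- `H₁`-regularity modulo `𝔞S`. -/
theorem h1_quotient {r : ℕ} (g : Fin r → S) [Module.Flat P (S ⧸ Ideal.span (Set.range g))]
    (h : CAlgX.IsH1Regular g) :
    CAlgX.IsH1Regular fun i => Ideal.Quotient.mk (𝔞.map (algebraMap P S)) (g i) := by
  intro x hx
  choose c hc using fun i => Ideal.Quotient.mk_surjective (x i)
  have h1 : ∑ i, c i * g i ∈ 𝔞.map (algebraMap P S) := by
    rw [← Ideal.Quotient.eq_zero_iff_mem, map_sum]
    simpa only [map_mul, hc] using hx
  have h2 : ∑ i, c i * g i ∈ Ideal.span (Set.range g) :=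
    Ideal.sum_mem _ fun i _ => Ideal.mul_mem_left _ _ (Ideal.subset_span ⟨i, rfl⟩)
  have h3 := mem_mul_of_mem 𝔞 _ h1 h2
  rw [← smul_eq_mul] at h3
  obtain ⟨a, ha, hae⟩ := (Submodule.mem_ideal_smul_span_iff_exists_sum _ g _).1 h3
  have h4 : ∑ i, (c i - a i) * g i = 0 := by
    rw [show ∑ i, (c i - a i) * g i = ∑ i, c i * g i - ∑ i, a i * g i by
      simp only [sub_mul, Finset.sum_sub_distrib], ← hae, Finsupp.sum_fintype _ _ (by simp)]
    simp only [smul_eq_mul, sub_self]
  have h5 := KindBasic.comp_mem_span_triv (φ := Ideal.Quotient.mk (𝔞.map (algebraMap P S))) (h _ h4)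
  rw [show x = fun i => Ideal.Quotient.mk (𝔞.map (algebraMap P S)) (c i - a i) from funext fun i => by
    rw [map_sub, hc, Ideal.Quotient.eq_zero_iff_mem.2 (ha i), sub_zero]]
  exact h5

/-- Quasi-regularity modulo `𝔞S`. -/
theorem quasi_quotient {r : ℕ} (g : Fin r → S) [Module.Flat P (S ⧸ Ideal.span (Set.range g))]
    (h : CAlgX.IsQuasiRegular g) :
    CAlgX.IsQuasiRegular fun i => Ideal.Quotient.mk (𝔞.map (algebraMap P S)) (g i) := by
  refine QuasiRegularThickening.isQuasiRegular_quotient ⊥ _ g bot_le ?_ fun x hx hxJ => ?_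
  · exact KindBasic.SeqF.map (k := .quasi) (φ := Ideal.Quotient.mk (⊥ : Ideal S))
      (RingHom.Flat.of_bijective (RingEquiv.quotientBot S).symm.bijective) h
  · rw [sup_bot_eq] at hxJ ⊢
    exact mem_mul_of_mem 𝔞 _ hx hxJ

end Pair

section BaseChange

variable {A B A' : Type u} [CommRing A] [CommRing B] [CommRing A'] [Algebra A B] [Algebra A A'] {r : ℕ}

/-- Reduction of a base change to a quotient of a flat one. -/
theorem baseChange_of (K : ∀ {T : Type u} [CommRing T], (Fin r → T) → Prop)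
    (hmap : ∀ {R T : Type u} [CommRing R] [CommRing T] (φ : R →+* T) (g : Fin r → R),
      φ.Flat → K g → K fun i => φ (g i))
    (hquot : ∀ {P S : Type u} [CommRing P] [CommRing S] [Algebra P S] (𝔞 : Ideal P) (g : Fin r → S),
      Module.Flat P (S ⧸ Ideal.span (Set.range g)) → K g →
        K fun i => Ideal.Quotient.mk (𝔞.map (algebraMap P S)) (g i))
    (f : Fin r → B) (hflat : Module.Flat A (B ⧸ Ideal.span (Set.range f))) (hq : K f) :
    K fun i => ((1 : A') ⊗ₜ[A] f i : A' ⊗[A] B) := by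
  let P := MvPolynomial A' A
  let π : P →ₐ[A] A' := MvPolynomial.aeval id
  have hπ : Function.Surjective π := fun a => ⟨MvPolynomial.X a, MvPolynomial.aeval_X _ _⟩
  let ι : B →ₐ[A] P ⊗[A] B := Algebra.TensorProduct.includeRight
  have hι : ι.toRingHom.Flat := by
    rw [show ι.toRingHom = (Algebra.TensorProduct.comm A B P).toRingEquiv.toRingHom.comp
        (algebraMap B (B ⊗[A] P)) from RingHom.ext fun b => rfl]
    exact RingHom.Flat.comp (RingHom.flat_algebraMap_iff.2 inferInstance)
      (RingHom.Flat.of_bijective (Algebra.TensorProduct.comm A B P).bijective)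
  have hg : K fun i => ι (f i) := hmap ι.toRingHom f hι hq
  let J := Ideal.span (Set.range f)
  have hfl : Module.Flat P ((P ⊗[A] B) ⧸ Ideal.span (Set.range fun i => ι (f i))) := by
    rw [show Ideal.span (Set.range fun i => ι (f i)) = J.map (Algebra.TensorProduct.includeRight (A := P) (R := A)) by
      rw [Ideal.map_span, ← Set.range_comp]
      rfl]
    exact Module.Flat.of_linearEquiv
      (Algebra.TensorProduct.tensorQuotientEquiv (R := A) P B P J).symm.toLinearEquiv
  have h1 := hquot (RingHom.ker π) _ hfl hg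
  let φ : P ⊗[A] B →ₐ[A] A' ⊗[A] B := Algebra.TensorProduct.map π (AlgHom.id A B)
  have hφ : Function.Surjective φ := LinearMap.rTensor_surjective B (g := π.toLinearMap) hπ
  have hker' : RingHom.ker φ = (RingHom.ker π).map (algebraMap P (P ⊗[A] B)) :=
    Algebra.TensorProduct.rTensor_ker (C := B) π hπ
  let e : ((P ⊗[A] B) ⧸ (RingHom.ker π).map (algebraMap P (P ⊗[A] B))) ≃+* A' ⊗[A] B :=
    (Ideal.quotEquivOfEq hker'.symm).trans (RingHom.quotientKerEquivOfSurjective hφ)
  have h2 := hmap e.toRingHom _ (RingHom.Flat.of_bijective e.bijective) h1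
  have he : (fun i => e.toRingHom (Ideal.Quotient.mk _ (ι (f i)))) = fun i => ((1 : A') ⊗ₜ[A] f i) :=
    funext fun i => by
      show φ (1 ⊗ₜ f i) = _
      simp [φ]
  rwa [he] at h2

theorem quasi_baseChange (f : Fin r → B) (hflat : Module.Flat A (B ⧸ Ideal.span (Set.range f)))
    (hq : CAlgX.IsQuasiRegular f) :
    CAlgX.IsQuasiRegular fun i => ((1 : A') ⊗ₜ[A] f i : A' ⊗[A] B) :=
  baseChange_of (fun g => CAlgX.IsQuasiRegular g)
    (fun _ _ hφ h => KindBasic.SeqF.map (k := .quasi) hφ h)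
    (fun 𝔞 g _ h => quasi_quotient 𝔞 g h) f hflat hq

theorem h1_baseChange (f : Fin r → B) (hflat : Module.Flat A (B ⧸ Ideal.span (Set.range f)))
    (hq : CAlgX.IsH1Regular f) :
    CAlgX.IsH1Regular fun i => ((1 : A') ⊗ₜ[A] f i : A' ⊗[A] B) :=
  baseChange_of (fun g => CAlgX.IsH1Regular g)
    (fun _ _ hφ h => KindBasic.SeqF.map (k := .h1) hφ h)
    (fun 𝔞 g _ h => h1_quotient 𝔞 g h) f hflat hq

end BaseChange

end Groth.Agent.FlatQuotBC
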